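import Groth.Agent.Lib.CMReg.Free
import Groth.Agent.Lib.CMReg.Koszul
import Groth.Agent.Lib.ProjFormula.Map
import Groth.Agent.Lib.OX.Tensor
import Groth.Agent.Lib.OX.TensorAssoc
import Groth.Agent.Lib.OX.SingleDegree
import Groth.Agent.Lib.OX.LocFreeTensor
import Groth.Agent.Lib.OX.FlatLocFree
import Groth.Agent.Lib.WeilFin11.Basic
import Groth.Agent.Lib.Euler.TensorSupport
import Groth.Agent.Lib.GrTilde.Mul
import Groth.Agent.Lib.ModelK.Exists
import Groth.Agent.Lib.SerrePn27.Generic
import Groth.Prelude.Def_SecTwist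

/-!
# Multiplication of sections through an evaluation sequence
-/

set_option autoImplicit false
set_option linter.all false
set_option backward.isDefEq.respectTransparency false
set_option maxHeartbeats 1000000

universe u

open CategoryTheory CategoryTheory.Limits AlgebraicGeometry TopologicalSpace Opposite

noncomputable section

namespace GrothLib.MulSec9

open GrothLib.Euler (tF)

variable {X : Scheme.{u}}

/-- A family of global sections as a map from the free module. -/
theorem sum_π_ι {N : ℕ} :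
    ∑ l : Fin N, (Sigma.desc fun m : Fin N => if m = l then 𝟙 (Coh.structureModule X) else 0) ≫
        Sigma.ι (fun _ : Fin N => Coh.structureModule X) l = 𝟙 (∐ fun _ : Fin N => Coh.structureModule X) := by
  refine Sigma.hom_ext _ _ fun m => ?_
  rw [Preadditive.comp_sum, Category.comp_id, Finset.sum_eq_single m]
  · rw [← Category.assoc, Sigma.ι_desc, if_pos rfl, Category.id_comp]
  · intro l _ hl
    rw [← Category.assoc, Sigma.ι_desc, if_neg (Ne.symm hl), zero_comp]
  · simp

theorem app_sum {A B : X.Modules} {U : X.Opens} {ι : Type*} (s : Finset ι) (f : ι → (A ⟶ B)) (w : Γ(A, U)) :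
    (∑ i ∈ s, f i).app U w = ∑ i ∈ s, (f i).app U w := by
  classical
  induction s using Finset.induction_on with
  | empty => rw [Finset.sum_empty, Finset.sum_empty]; rfl
  | insert a t ha ih => rw [Finset.sum_insert ha, Finset.sum_insert ha, ← ih]; rfl

variable (k : Type u) [Field k] [X.Over (Spec (CommRingCat.of k))]

include k in
/-- Multiplication by the sections of an evaluation map is surjective when the kernel twisted has no first
cohomology. -/
theorem surjective_mul {N : ℕ} {L G : X.Modules} (q : (∐ fun _ : Fin N => Coh.structureModule X) ⟶ L) [Epi q]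
    (hG : FlatMod.IsFlat G) (h1 : Subsingleton (Coh.HH X ((tF G).obj (kernel q)) 1)) :
    Function.Surjective ((toSheafify (Opens.grothendieckTopology ↥X) (CohB1.tensorPre L G).presheaf).app
      (op ⊤)) := by
  let S := ShortComplex.mk (kernel.ι q) q (kernel.condition q)
  have hS : S.ShortExact := { exact := ShortComplex.exact_of_f_is_kernel _ (kernelIsKernel q) }
  have hT := OX.tensor_map_shortExact hG hS
  let T : ShortComplex X.Modules := S.map (tF G)
  intro (z : Γ(CohB1.tensorMod L G, ⊤))
  obtain ⟨w, hw⟩ : ∃ w, ((tF G).map q).app ⊤ w = z := by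
    obtain ⟨x, hx⟩ := (Cohom.exact₃ (A := k) hT 0 ((ProjCoh.H0top ((tF G).obj L)).symm z)).1
      (@Subsingleton.elim _ h1 _ _)
    refine ⟨ProjCoh.H0top _ x, ?_⟩
    have h := congrArg (ProjCoh.H0top ((tF G).obj L)) hx
    rw [AddEquiv.apply_symm_apply] at h
    exact (ProjCoh.H0top_map ((QCoh.toAbFun _).map ((tF G).map q)) x).symm.trans h
  subst hw
  let ι := fun l : Fin N => Sigma.ι (fun _ : Fin N => Coh.structureModule X) l
  let π := fun l : Fin N => Sigma.desc fun m : Fin N => if m = l then 𝟙 (Coh.structureModule X) else 0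
  have hsum : ((tF G).map q).app ⊤ w =
      ∑ l : Fin N, ((tF G).map (ι l ≫ q)).app ⊤ (((tF G).map (π l)).app ⊤ w) := by
    have h : (tF G).map q = ∑ l : Fin N, (tF G).map (π l) ≫ (tF G).map (ι l ≫ q) := by
      simp only [← Functor.map_comp, ← Category.assoc, ← Functor.map_sum, ← Preadditive.sum_comp]
      erw [sum_π_ι, Category.id_comp]
    rw [h]
    show (∑ l : Fin N, (tF G).map (π l) ≫ (tF G).map (ι l ≫ q)).app ⊤ w = _
    rw [app_sum]
    rfl
  rw [hsum]
  choose y hy using fun l : Fin N => (show ∃ y : (CohB1.tensorPre L G).obj (op ⊤),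
      ((SecTwist.toTensor L G).app (op ⊤)).hom y =
        ((tF G).map (ι l ≫ q)).app ⊤ (((tF G).map (π l)).app ⊤ w) from by
    let φ := OX.tensorUnitLeftIso G
    let u : Γ(CohB1.tensorMod (Coh.structureModule X) G, ⊤) := ((tF G).map (π l)).app ⊤ w
    have hu : u = OX.tmulSec (Coh.structureModule X) G ⊤ (1 : Γ(X, ⊤)) (φ.hom.app ⊤ u) := by
      have hinj : Function.Injective (φ.hom.app ⊤) := (ConcreteCategory.bijective_of_isIso (φ.hom.app ⊤)).1
      refine hinj ?_
      refine Eq.trans ?_ (ProjFormula.tensorUnitLeftIso_tmulSec G ⊤ (1 : Γ(X, ⊤)) (φ.hom.app ⊤ u)).symm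
      exact (one_smul _ _).symm
    refine ⟨((DCoh.toP.map (ι l ≫ q)).app (op ⊤) (show Γ(Coh.structureModule X, ⊤) from (1 : Γ(X, ⊤)))) ⊗ₜ
      (φ.hom.app ⊤ u), ?_⟩
    refine Eq.trans ?_ (congrArg (fun v => ((tF G).map (ι l ≫ q)).app ⊤ v) hu).symm
    exact (ProjFormula.map_left_tmulSec (ι l ≫ q) G ⊤ (1 : Γ(X, ⊤)) (φ.hom.app ⊤ u)).symm)
  refine ⟨∑ l, y l, ?_⟩
  rw [map_sum]
  exact Finset.sum_congr rfl fun l _ => hy l

variable [IsProper (X ↘ Spec (CommRingCat.of k))]

include k in
/-- An evaluation map bijective on sections has finitely many summands. -/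
theorem finite_index [Nonempty X] {L : X.Modules} (hL : PicF.IsInvertible L) {J : Type u}
    (ev : (SheafOfModules.free J : X.Modules) ⟶ L)
    (hev : Function.Bijective (Sheaf.H.map ((SheafOfModules.toSheaf X.ringCatSheaf).map ev) 0)) : Finite J := by
  classical
  haveI := Euler.isNoetherian_of_proper (X := X) k
  haveI := Euler.finiteDimensional_HH k (Euler.isCoh_of_isInvertible hL) 0
  let F : X.Modules := SheafOfModules.free J
  let ej : J → (Coh.structureModule X ⟶ F) := fun j => Sigma.ι (fun _ : J => Coh.structureModule X) j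
  let z₀ : Coh.HH X (Coh.structureModule X) 0 :=
    (ProjCoh.H0top (Coh.structureModule X)).symm (show Γ(Coh.structureModule X, ⊤) from (1 : Γ(X, ⊤)))
  let v : J → Coh.HH X L 0 := fun j => Cohom.hhMap k ev 0 (Cohom.hhMap k (ej j) 0 z₀)
  suffices h : LinearIndependent k v from h.finite
  have hinj : Function.Injective (Cohom.hhMap k ev 0) := fun a b h => hev.1 h
  refine LinearIndependent.map' ?_ _ (LinearMap.ker_eq_bot.2 hinj)
  rw [linearIndependent_iff']
  intro s g hg i hi
  let π : F ⟶ Coh.structureModule X := Sigma.desc fun m : J => if m = i then 𝟙 (Coh.structureModule X) else 0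
  have h := congrArg (Cohom.hhMap k π 0) hg
  rw [map_sum, map_zero, Finset.sum_eq_single i] at h
  · rw [map_smul, ← Euler.hhMap_comp, show ej i ≫ π = 𝟙 _ from (Sigma.ι_desc _ _).trans (if_pos rfl),
      Euler.hhMap_id] at h
    refine (smul_eq_zero.1 h).resolve_right fun h0 => ?_
    haveI : Nonempty (⊤ : X.Opens) := ⟨⟨Classical.arbitrary X, trivial⟩⟩
    refine one_ne_zero (α := Γ(X, ⊤)) ?_
    exact ((ProjCoh.H0top (Coh.structureModule X)).apply_symm_apply _).symm.trans
      ((congrArg _ h0).trans (map_zero _))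
  · intro j _ hj
    rw [map_smul, ← Euler.hhMap_comp, show ej j ≫ π = 0 from (Sigma.ι_desc _ _).trans (if_neg hj),
      SerrePn27.hhMap_zero, LinearMap.zero_apply, smul_zero]
  · exact fun h => absurd hi h

include k in
/-- **Multiplication with the kernel bundle.** -/
theorem mulSections_surjective {L : X.Modules} (hL : PicF.IsInvertible L)
    {J : Type u} (ev : (SheafOfModules.free J : X.Modules) ⟶ L) [Epi ev]
    (hev : Function.Bijective (Sheaf.H.map ((SheafOfModules.toSheaf X.ringCatSheaf).map ev) 0))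
    (i h : ℕ)
    (hvan : Subsingleton (Coh.HH X (CohB1.tensorMod (CohB1.tensorPow (kernel ev) (i + 1)) (CohB1.tensorPow L h)) 1)) :
    Function.Surjective ((toSheafify (Opens.grothendieckTopology ↥X)
      (CohB1.tensorPre L (CohB1.tensorMod (CohB1.tensorPow (kernel ev) i) (CohB1.tensorPow L h))).presheaf).app
        (Opposite.op ⊤)) := by
  classical
  rcases isEmpty_or_nonempty X with hX | hX
  · intro z
    haveI : Subsingleton Γ(CohB1.tensorMod L (CohB1.tensorMod (CohB1.tensorPow (kernel ev) i) (CohB1.tensorPow L h)), ⊤) :=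
      subsingleton_of_forall_eq 0 fun s => QCoh.section_eq_zero_of_germ _ s fun x _ => isEmptyElim x
    exact ⟨0, Subsingleton.elim (α := Γ(CohB1.tensorMod L (CohB1.tensorMod (CohB1.tensorPow (kernel ev) i) (CohB1.tensorPow L h)), ⊤)) _ _⟩
  haveI := finite_index k hL ev hev
  obtain ⟨N, ⟨σ⟩⟩ := Finite.exists_equiv_fin J
  let φ : (∐ fun _ : Fin N => Coh.structureModule X) ≅ (SheafOfModules.free J : X.Modules) :=
    Sigma.reindex σ.symm (fun _ : J => Coh.structureModule X)
  let q := φ.hom ≫ ev
  have hfree : FlatMod.IsFinLocFree (∐ fun _ : Fin N => Coh.structureModule X) := OX.isFinLocFree_freeMod X N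
  have hq : FlatMod.IsFinLocFree (kernel q) :=
    OX.isFinLocFree_kernel q hfree (Euler.isFinLocFree_of_isInvertible hL)
  let M := kernel ev
  let e : kernel q ≅ M := kernelIsIsoComp φ.hom ev
  have hM : FlatMod.IsFinLocFree M := fun x => by
    obtain ⟨U, n, hx, ⟨e'⟩⟩ := hq x
    exact ⟨U, n, hx, ⟨(Scheme.Modules.restrictFunctor U.ι).mapIso e.symm ≪≫ e'⟩⟩
  let G := CohB1.tensorMod (CohB1.tensorPow M i) (CohB1.tensorPow L h)
  have hG : FlatMod.IsFlat G := OX.flat_of_isFinLocFree (ModelK.isFinLocFree_tensorMod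
    (WeilFin11.isFinLocFree_tensorPow hM i)
    (Euler.isFinLocFree_of_isInvertible (Ample.isInvertible_tensorPow hL h)))
  refine surjective_mul k q hG ?_
  let A := CohB1.tensorPow M i
  let B := CohB1.tensorPow L h
  have i1 : CohB1.tensorMod (CohB1.tensorMod A M) B ≅ CohB1.tensorMod M (CohB1.tensorMod A B) :=
    Ample.LineData.tensorModMapIso (GrTilde.tensorModComm A M) (Iso.refl B) ≪≫ OX.tensorAssoc M A B
  exact CMReg.subsingleton_of_iso ((tF G).mapIso e).symm (CMReg.subsingleton_of_iso i1 hvan)

end GrothLib.MulSec9
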